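import Cfsg.Agent.H45.UniS.Main
import Cfsg.Agent.H45.Uni.Final
import Cfsg.Agent.H421.UniS.Frame
import Cfsg.Agent.H41.SDiag

/-!
# Theorem (U) for symplectic groups, final form modulo `SZero`, `SWt`, `SNeg`, `SPgrp`
-/

set_option autoImplicit false
set_option linter.unusedSimpArgs false
set_option linter.unusedSectionVars false

namespace Cfsg.Agent.H45.UniS

open Matrix Polynomial Cfsg.Agent.H45.Uni Finset TensorProduct

universe u v

section

variable {m p : ℕ} [Fact p.Prime] {F : Type v} [Field F] [Fintype F]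

/-- **(U)** for `Sp_{2m}`, from the parts -/
theorem exists_fix_SG (hp : 2 < p) (hF : Fintype.card F = p)
    (hzero : SZero p m (AlgebraicClosure F)) (hpg : SPgrp p m F)
    (hwt : ∀ (W : Type (max u v)) [AddCommGroup W] [Module (AlgebraicClosure F) W], SWt m F (AlgebraicClosure F) W)
    (hNeg : ∀ (W : Type (max u v)) [AddCommGroup W] [Module (AlgebraicClosure F) W], SNeg m F (AlgebraicClosure F) W)
    (x : SG m F) (hx : (orderOf x).Coprime p) (V : Type u) [AddCommGroup V] [Module (ZMod p) V] [Finite V]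
    [Nontrivial V] (ρ : SG m F →* (V ≃ₗ[ZMod p] V)) (hcen : ρ (ts fun _ => (-1 : Fˣ)) = 1) :
    ∃ w : V, w ≠ 0 ∧ ρ x w = w := by
  classical
  let k := AlgebraicClosure F
  have hcF : CharP F p := charP_of_card (Fact.out : p.Prime) hF
  have hck : CharP k p := charP_of_injective_algebraMap (algebraMap F k).injective p
  let _ : Algebra (ZMod p) k := ZMod.algebra k p
  have : Module.Finite (ZMod p) V := Module.Finite.of_finite
  -- base change
  let ρk : SG m F →* Module.End k (k ⊗[ZMod p] V) :=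
    { toFun := fun g => (ρ g).toLinearMap.baseChange k
      map_one' := by
        rw [map_one]
        exact LinearMap.baseChange_id
      map_mul' := fun g h => by
        rw [map_mul]
        exact LinearMap.baseChange_comp _ _ }
  have hnt : Nontrivial (k ⊗[ZMod p] V) := by
    obtain ⟨w, hw⟩ := exists_ne (0 : V)
    have hinj : Function.Injective (fun v : V => (1 : k) ⊗ₜ[ZMod p] v) := by
      have h1 : Function.Injective (LinearMap.rTensor V (Algebra.linearMap (ZMod p) k)) :=
        Module.Flat.rTensor_preserves_injective_linearMap _ (algebraMap (ZMod p) k).injective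
      intro a b hab
      have h2 : LinearMap.rTensor V (Algebra.linearMap (ZMod p) k) ((TensorProduct.lid (ZMod p) V).symm a) =
          LinearMap.rTensor V (Algebra.linearMap (ZMod p) k) ((TensorProduct.lid (ZMod p) V).symm b) := by
        rw [TensorProduct.lid_symm_apply, TensorProduct.lid_symm_apply, LinearMap.rTensor_tmul,
          LinearMap.rTensor_tmul, Algebra.linearMap_apply, map_one]
        exact hab
      exact (TensorProduct.lid (ZMod p) V).symm.injective (h1 h2)
    refine ⟨⟨(1 : k) ⊗ₜ[ZMod p] w, 0, fun h => hw ?_⟩⟩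
    apply hinj
    show (1 : k) ⊗ₜ[ZMod p] w = (1 : k) ⊗ₜ[ZMod p] (0 : V)
    rw [h, TensorProduct.tmul_zero]
  obtain ⟨N, hN0, hNinv, hNmin⟩ := exists_min ρk
  let ρN : SG m F →* Module.End k N :=
    { toFun := fun g => (ρk g).restrict (hNinv g)
      map_one' := by
        ext x
        simp
      map_mul' := fun g h => by
        ext x
        simp }
  have hNnt : Nontrivial N := Submodule.nontrivial_iff_ne_bot.2 hN0
  have hirr : ∀ M : Submodule k N, (∀ g, ∀ v ∈ M, ρN g v ∈ M) → M = ⊥ ∨ M = ⊤ := by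
    intro M hM
    by_cases h0 : M = ⊥
    · exact Or.inl h0
    right
    have h1 := hNmin (M.map N.subtype) (fun h => h0 (by
      rw [eq_bot_iff]
      intro v hv
      have h2 : v.1 ∈ M.map N.subtype := ⟨v, hv, rfl⟩
      rw [h, Submodule.mem_bot] at h2
      exact Subtype.ext h2)) (by
        rintro g _ ⟨v, hv, rfl⟩
        exact ⟨ρN g v, hM g v hv, rfl⟩) (Submodule.map_subtype_le N M)
    rw [eq_top_iff]
    rintro ⟨v, hv⟩ -
    rw [← h1] at hv
    obtain ⟨w, hw, hwv⟩ := hv
    have : w = ⟨v, by rw [← h1]; exact ⟨w, hw, hwv⟩⟩ := Subtype.ext hwv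
    rw [← this]
    exact hw
  have hcenk : ρk (ts fun _ => (-1 : Fˣ)) = 1 := by
    show (ρ (ts fun _ => (-1 : Fˣ))).toLinearMap.baseChange k = 1
    rw [hcen]
    exact LinearMap.baseChange_id
  have hcenN : ρN (ts fun _ => (-1 : Fˣ)) = 1 := by
    ext x
    show (ρk (ts fun _ => (-1 : Fˣ)) x.1) = x.1
    rw [hcenk]
    rfl
  obtain ⟨v, hv0, hv⟩ := main_simple (k := k) hp hF H421.UniS.sGen H421.UniS.sRank H421.UniS.sComm
    H421.UniS.sTor (H41.SDiag.sDiag p (Fact.out : p.Prime)) hzero hpg (hwt N) (hNeg _) ρN hirr hcenN x hx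
  -- back to `V`
  by_contra hcon
  push Not at hcon
  have hinj : Function.Injective ((ρ x).toLinearMap - LinearMap.id : V →ₗ[ZMod p] V) := by
    rw [injective_iff_map_eq_zero]
    intro w hw
    by_contra hw0
    exact hcon w hw0 (sub_eq_zero.1 hw)
  have hinj2 : Function.Injective (LinearMap.lTensor k ((ρ x).toLinearMap - LinearMap.id : V →ₗ[ZMod p] V)) :=
    Module.Flat.lTensor_preserves_injective_linearMap _ hinj
  apply hv0
  apply Subtype.ext
  apply hinj2
  rw [LinearMap.lTensor_sub, LinearMap.sub_apply]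
  have h3 : ρk x v.1 = v.1 := congrArg Subtype.val hv
  have h4 : LinearMap.lTensor k (ρ x).toLinearMap v.1 = v.1 := h3
  rw [h4, LinearMap.lTensor_id]
  simp

/-- `-1` -/
theorem ts_neg_one : (ts (fun _ => (-1 : Fˣ)) : SG m F).1 = -1 := by
  show Matrix.diagonal (tsVec fun _ => (-1 : Fˣ)) = -1
  have : tsVec (fun _ : Fin m => (-1 : Fˣ)) = fun _ => (-1 : F) := by
    funext j
    rcases j with j | j
    · show ((-1 : Fˣ) : F) = -1
      simp
    · show (((-1 : Fˣ)⁻¹ : Fˣ) : F) = -1
      rw [inv_neg, inv_one]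
      simp
  rw [this, ← Matrix.diagonal_one, Matrix.diagonal_neg]

theorem ts_neg_one_mem_center : (ts (fun _ => (-1 : Fˣ)) : SG m F) ∈ Subgroup.center (SG m F) := by
  rw [Subgroup.mem_center_iff]
  intro g
  apply Subtype.ext
  show g.1 * (ts (fun _ => (-1 : Fˣ)) : SG m F).1 = (ts (fun _ => (-1 : Fˣ)) : SG m F).1 * g.1
  rw [ts_neg_one, mul_neg, mul_one, neg_mul, one_mul]

/-- lifting elements of order prime to `p` -/
theorem exists_lift {G : Type*} [Group G] [Finite G] {N : Subgroup G} [N.Normal] (x : G ⧸ N)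
    (hx : (orderOf x).Coprime p) : ∃ z : G, (QuotientGroup.mk z : G ⧸ N) = x ∧ (orderOf z).Coprime p := by
  have hpp : p.Prime := Fact.out
  obtain ⟨y, rfl⟩ := QuotientGroup.mk_surjective x
  set n := orderOf y with hn
  have hn0 : n ≠ 0 := (orderOf_pos y).ne'
  set r := orderOf (QuotientGroup.mk y : G ⧸ N) with hr
  -- `n = p ^ a * b`
  obtain ⟨a, b, hb, hnb⟩ := Nat.exists_eq_pow_mul_and_not_dvd hn0 p hpp.ne_one
  have hcop : (p ^ a).Coprime b := (Nat.Prime.coprime_pow_of_not_dvd (m := a) hpp hb).symm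
  have hrd : r ∣ b := by
    have h1 : r ∣ n := orderOf_map_dvd (QuotientGroup.mk' _) y
    rw [hnb] at h1
    exact (Nat.Coprime.pow_right a hx).dvd_of_dvd_mul_left h1
  -- choose `c` with `c ≡ 1 mod b`, `c ≡ 0 mod p ^ a`
  obtain ⟨c, hc1, hc2⟩ := Nat.chineseRemainder hcop 0 1
  refine ⟨y ^ c, ?_, ?_⟩
  · rw [QuotientGroup.mk_pow]
    have h1 : c ≡ 1 [MOD r] := hc2.of_dvd hrd
    rw [hr] at h1
    have := (pow_eq_pow_iff_modEq (x := (QuotientGroup.mk y : G ⧸ N))).2 h1
    rw [this, pow_one]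
  · have h2 : p ^ a ∣ c := (Nat.modEq_zero_iff_dvd).1 hc1
    obtain ⟨d, hd⟩ := h2
    have h3 : orderOf (y ^ c) ∣ b := by
      rw [orderOf_dvd_iff_pow_eq_one, ← pow_mul, hd]
      have : p ^ a * d * b = n * d := by rw [hnb]; ring
      rw [this, pow_mul, hn, pow_orderOf_eq_one, one_pow]
    exact Nat.Coprime.coprime_dvd_left h3 ((hpp.coprime_iff_not_dvd).2 hb).symm

theorem finite_SG : Finite (SG m F) := by
  have : Finite (Matrix (Fin m ⊕ Fin m) (Fin m ⊕ Fin m) F) := inferInstance
  infer_instance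

/-- **(U)** for `PSp_{2m}(p)`, from the parts -/
theorem fixAll_PSp_of (hp : 2 < p) (hF : Fintype.card F = p)
    (hzero : SZero p m (AlgebraicClosure F)) (hpg : SPgrp p m F)
    (hwt : ∀ (W : Type (max u v)) [AddCommGroup W] [Module (AlgebraicClosure F) W], SWt m F (AlgebraicClosure F) W)
    (hNeg : ∀ (W : Type (max u v)) [AddCommGroup W] [Module (AlgebraicClosure F) W], SNeg m F (AlgebraicClosure F) W)
    (x : Cfsg.PSp m F) (hx : (orderOf x).Coprime p) : H425.KFix.FixAll.{u} p x := by
  have := finite_SG (m := m) (F := F)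
  obtain ⟨z, rfl, hz⟩ := exists_lift (p := p) x hx
  intro V _ _ _ _ ρ
  have h := exists_fix_SG hp hF hzero hpg hwt hNeg z hz V
    (ρ.comp (QuotientGroup.mk' (Subgroup.center (Matrix.symplecticGroup (Fin m) F)))) (by
      rw [MonoidHom.comp_apply]
      have : QuotientGroup.mk' (Subgroup.center (Matrix.symplecticGroup (Fin m) F)) (ts fun _ => (-1 : Fˣ)) = 1 :=
        (QuotientGroup.eq_one_iff _).2 ts_neg_one_mem_center
      rw [this, map_one])
  exact h

end

end Cfsg.Agent.H45.UniS
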