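import Cfsg.Agent.H45.UniS.Final
import Cfsg.Agent.H421.UniS.Wt
import Cfsg.Agent.H168.Uni.SpZero

/-!
# Theorem (U) for symplectic groups

`F` of order `3`: every element of order prime to `3` of `Sp_{2m}(3)` fixes a nonzero vector of every nonzero finite
module in characteristic `3` on which `-1` acts trivially.
-/

set_option autoImplicit false

namespace Cfsg.Agent.H45.UniS

open Cfsg.Agent.H45.Uni

universe u v

/-- **Theorem (U)** for `Sp_{2m}(3)`, modules with trivial action of `-1` -/
theorem exists_fix {m : ℕ} {F : Type v} [Field F] [Fintype F] (hF : Fintype.card F = 3) (x : SG m F)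
    (hx : (orderOf x).Coprime 3) (V : Type u) [AddCommGroup V] [Module (ZMod 3) V] [Finite V]
    [Nontrivial V] (ρ : SG m F →* (V ≃ₗ[ZMod 3] V)) (hcen : ρ (ts fun _ => (-1 : Fˣ)) = 1) :
    ∃ w : V, w ≠ 0 ∧ ρ x w = w := by
  have : Fact (Nat.Prime 3) := ⟨Nat.prime_three⟩
  have hcF : CharP F 3 := charP_of_card Nat.prime_three hF
  have hck : CharP (AlgebraicClosure F) 3 :=
    charP_of_injective_algebraMap (algebraMap F (AlgebraicClosure F)).injective 3
  have h2 : (2 : F) ≠ 0 := by
    intro h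
    have h1 : ((2 : ℕ) : F) = 0 := by exact_mod_cast h
    rw [CharP.cast_eq_zero_iff F 3] at h1
    omega
  exact exists_fix_SG (p := 3) (by norm_num) hF H168.Uni.Sp.sZero_three H421.UniS.sPgrp
    (fun W _ _ => H421.UniS.sWt (p := 3) (by decide)) (fun W _ _ => H421.UniS.sNeg h2) x hx V ρ hcen

/-- **Theorem (U)** for `PSp_{2m}(3)` -/
theorem fixAll {m : ℕ} {F : Type v} [Field F] [Fintype F] (hF : Fintype.card F = 3) (x : Cfsg.PSp m F)
    (hx : (orderOf x).Coprime 3) : H425.KFix.FixAll.{u} 3 x := by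
  have : Fact (Nat.Prime 3) := ⟨Nat.prime_three⟩
  have hcF : CharP F 3 := charP_of_card Nat.prime_three hF
  have hck : CharP (AlgebraicClosure F) 3 :=
    charP_of_injective_algebraMap (algebraMap F (AlgebraicClosure F)).injective 3
  have h2 : (2 : F) ≠ 0 := by
    intro h
    have h1 : ((2 : ℕ) : F) = 0 := by exact_mod_cast h
    rw [CharP.cast_eq_zero_iff F 3] at h1
    omega
  exact fixAll_PSp_of (p := 3) (by norm_num) hF H168.Uni.Sp.sZero_three H421.UniS.sPgrp
    (fun W _ _ => H421.UniS.sWt (p := 3) (by decide)) (fun W _ _ => H421.UniS.sNeg h2) x hx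

end Cfsg.Agent.H45.UniS
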